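/-
The arithmetic behind the maximality of cubic-field normalisers in `SU_3`.
-/
import Mathlib

set_option autoImplicit false
set_option maxHeartbeats 1000000

namespace CfsgLib.MaxSub.SU3Max.Cubic

theorem small_full : ∀ q : Fin 60, ∀ k : Fin 126, 2 ≤ q.val → 1 ≤ k.val → k.val ≤ 2 * q.val + 6 →
    k.val * (q.val * q.val + 1 - q.val) + 3 ∣
      9 * (q.val * q.val + 3 * q.val + 2) + k.val * (12 * q.val + 15) + 3 * k.val * k.val →
    q.val ∈ [2, 3, 4, 5, 6, 8, 14, 35] := by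
  decide +kernel

theorem small_tail : ∀ q : Fin 260, ∀ k : Fin 15, 60 ≤ q.val → 1 ≤ k.val →
    ¬ k.val * (q.val * q.val + 1 - q.val) + 3 ∣
      9 * (q.val * q.val + 3 * q.val + 2) + k.val * (12 * q.val + 15) + 3 * k.val * k.val := by
  decide +kernel

theorem small_one : ∀ q : Fin 60, ∀ k : Fin 126, 2 ≤ q.val → 1 ≤ k.val → k.val ≤ 2 * q.val + 6 →
    k.val % 3 = 0 →
    k.val * (q.val * q.val + 1 - q.val) + 3 ∣
      3 * (q.val * q.val + 3 * q.val + 2) + k.val * (4 * q.val + 5) + k.val * k.val →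
    q.val ∈ [2, 3, 4, 6] := by
  decide +kernel

theorem core_three {q j k l : ℕ} (hq : 2 ≤ q) (hk : 1 ≤ k) (hkl : k ≤ l) (hj : 1 ≤ j)
    (hprod : (k : ℤ) * l + j = 3 * ((q : ℤ) ^ 2 + 3 * q + 2))
    (hsum : 3 * ((k : ℤ) + l + 4 * q + 5) = (j : ℤ) * ((q : ℤ) ^ 2 - q + 1)) :
    q ∈ [2, 3, 4, 5, 6, 8, 14, 35] := by
  set M : ℤ := (q : ℤ) ^ 2 - q + 1 with hM
  have hk2 : (k : ℤ) ≤ 2 * q + 6 := by
    nlinarith [mul_le_mul_of_nonneg_left (show (k : ℤ) ≤ l by exact_mod_cast hkl) (show (0 : ℤ) ≤ k by positivity)]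
  have he : (j : ℤ) * (k * M + 3) =
      9 * ((q : ℤ) ^ 2 + 3 * q + 2) + k * (12 * q + 15) + 3 * k * k := by
    linear_combination 3 * hprod - (k : ℤ) * hsum
  have hdvd : k * (q * q + 1 - q) + 3 ∣ 9 * (q * q + 3 * q + 2) + k * (12 * q + 15) + 3 * k * k := by
    refine ⟨j, ?_⟩
    zify [show q ≤ q * q + 1 by nlinarith]
    rw [hM] at he
    linear_combination -he
  by_cases h60 : q < 60
  · exact small_full ⟨q, h60⟩ ⟨k, by omega⟩ hq hk (by show k ≤ 2 * q + 6; omega) hdvd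
  have hk14 : k ≤ 14 := by
    by_contra hn
    have hq60 : (60 : ℤ) ≤ q := by exact_mod_cast (show 60 ≤ q by omega)
    have hM0 : 0 ≤ M := by rw [hM]; nlinarith
    have hP1 : 0 ≤ ((j : ℤ) - 1) * (k * M + 3) :=
      mul_nonneg (by omega) (add_nonneg (mul_nonneg (by positivity) hM0) (by norm_num))
    have hP2 : 0 ≤ 3 * (k : ℤ) * (2 * q + 6 - k) := mul_nonneg (by positivity) (by linarith)
    have hP3 : 0 ≤ ((k : ℤ) - 15) * (M - 18 * q - 33) := mul_nonneg (by omega) (by rw [hM]; nlinarith)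
    rw [hM] at hP1 hP3 he
    nlinarith [hP1, hP2, hP3, he]
  exfalso
  have h10 : 10 ≤ k * j := by
    by_contra hn
    have h9 : (k : ℤ) * j ≤ 9 := by exact_mod_cast (show k * j ≤ 9 by omega)
    have hj9 : (j : ℤ) ≤ 9 := by nlinarith
    nlinarith [mul_nonneg (show (0 : ℤ) ≤ 9 - (k : ℤ) * j by omega) (show (0 : ℤ) ≤ M by nlinarith)]
  have hq200 : q < 260 := by
    by_contra hn
    have hq260 : (260 : ℤ) ≤ q := by exact_mod_cast (show 260 ≤ q by omega)
    have h1 : (10 : ℤ) ≤ (k : ℤ) * j := by exact_mod_cast h10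
    have hM0 : 0 ≤ M := by rw [hM]; nlinarith
    have hP1 := mul_nonneg (sub_nonneg.2 h1) hM0
    have hP2 : 0 ≤ (14 - (k : ℤ)) * (12 * q + 15) := mul_nonneg (by omega) (by omega)
    have hP3 : 0 ≤ (14 - (k : ℤ)) * (k + 14) := mul_nonneg (by omega) (by omega)
    rw [hM] at hP1 he
    nlinarith [hP1, hP2, hP3, he]
  exact small_tail ⟨q, hq200⟩ ⟨k, by omega⟩ (by show 60 ≤ q; omega) hk hdvd

theorem core_one {q j k l : ℕ} (hq : 2 ≤ q) (hk : 1 ≤ k) (hkl : k ≤ l) (hj : 1 ≤ j)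
    (hprod : 3 * (k : ℤ) * l + j = (q : ℤ) ^ 2 + 3 * q + 2)
    (hsum : 3 * ((k : ℤ) + l) + 4 * q + 5 = (j : ℤ) * ((q : ℤ) ^ 2 - q + 1)) :
    q ∈ [2, 3, 4, 6] := by
  set M : ℤ := (q : ℤ) ^ 2 - q + 1 with hM
  have hk2 : 3 * (k : ℤ) ≤ 2 * q + 6 := by
    nlinarith [mul_le_mul_of_nonneg_left (show (k : ℤ) ≤ l by exact_mod_cast hkl) (show (0 : ℤ) ≤ k by positivity)]
  have he : (j : ℤ) * (3 * k * M + 3) =
      3 * ((q : ℤ) ^ 2 + 3 * q + 2) + 3 * k * (4 * q + 5) + (3 * k) * (3 * k) := by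
    linear_combination 3 * hprod - 3 * (k : ℤ) * hsum
  by_cases h60 : q < 60
  · refine small_one ⟨q, h60⟩ ⟨3 * k, by omega⟩ hq (by show 1 ≤ 3 * k; omega) (by show 3 * k ≤ 2 * q + 6; omega)
      (by show 3 * k % 3 = 0; omega) ⟨j, ?_⟩
    show 3 * (q * q + 3 * q + 2) + 3 * k * (4 * q + 5) + 3 * k * (3 * k) = _
    zify [show q ≤ q * q + 1 by nlinarith]
    rw [hM] at he
    linear_combination -he
  exfalso
  have hq60 : (60 : ℤ) ≤ q := by exact_mod_cast (show 60 ≤ q by omega)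
  have hM0 : 0 ≤ M := by rw [hM]; nlinarith
  have hk1 : k = 1 := by
    by_contra hn
    have hP1 : 0 ≤ ((j : ℤ) - 1) * (3 * k * M + 3) :=
      mul_nonneg (by omega) (add_nonneg (mul_nonneg (by positivity) hM0) (by norm_num))
    have hP2 : 0 ≤ 3 * (k : ℤ) * (2 * q + 6 - 3 * k) := mul_nonneg (by positivity) (by linarith)
    have hP3 : 0 ≤ ((k : ℤ) - 2) * (M - 6 * q - 11) := mul_nonneg (by omega) (by rw [hM]; nlinarith)
    rw [hM] at hP1 hP3 he
    nlinarith [hP1, hP2, hP3, he]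
  subst hk1
  rcases Nat.lt_or_ge j 2 with hj2 | hj2
  · obtain rfl : j = 1 := by omega
    rw [hM] at he
    push_cast at he
    nlinarith
  · have hP : 0 ≤ ((j : ℤ) - 2) * (3 * M + 3) := mul_nonneg (by omega) (by linarith)
    rw [hM] at he hP
    push_cast at he
    nlinarith [hP, he]

theorem list_exclude {q : ℕ} (hq : 2 ≤ q) (hne : q ∉ [2, 3, 4, 5, 6, 8, 14, 35]) : q ∉ [2, 3, 4, 6] := fun h => by
  simp only [List.mem_cons, List.not_mem_nil, or_false] at h hne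
  omega

/-- The possible indices over the normaliser. -/
theorem solve {q m d a b : ℕ} (hq : 2 ≤ q) (hne : q ∉ [2, 3, 4, 5, 6, 8, 14, 35])
    (hd : d = if q % 3 = 2 then 3 else 1) (hm : d * m + q = q ^ 2 + 1)
    (hab : 3 * (a * b) = q ^ 3 * (q + 1) ^ 2 * (q - 1)) (ha : a ≡ 1 [MOD m]) (hb : b ≡ 1 [MOD m]) :
    a = 1 ∨ b = 1 := by
  have hpos : 0 < a * b := by
    rcases Nat.eq_zero_or_pos (a * b) with h0 | h0
    · rw [h0] at hab
      have : 0 < q ^ 3 * (q + 1) ^ 2 * (q - 1) :=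
        Nat.mul_pos (Nat.mul_pos (pow_pos (by omega) _) (pow_pos (by omega) _)) (by omega)
      omega
    · exact h0
  have ha0 : 1 ≤ a := Nat.pos_of_mul_pos_right hpos
  have hb0 : 1 ≤ b := Nat.pos_of_mul_pos_left hpos
  obtain ⟨k, hk⟩ := (Nat.modEq_iff_dvd' ha0).1 ha.symm
  obtain ⟨l, hl⟩ := (Nat.modEq_iff_dvd' hb0).1 hb.symm
  by_cases hk0 : k = 0
  · left; subst hk0; rw [Nat.mul_zero] at hk; omega
  by_cases hl0 : l = 0
  · right; subst hl0; rw [Nat.mul_zero] at hl; omega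
  exfalso
  have habZ : (3 : ℤ) * ((1 + m * k) * (1 + m * l)) = (q : ℤ) ^ 3 * ((q : ℤ) + 1) ^ 2 * ((q : ℤ) - 1) := by
    have h := congrArg (fun n : ℕ => (n : ℤ)) hab
    rw [show a = 1 + m * k by omega, show b = 1 + m * l by omega] at h
    push_cast [Nat.cast_sub (show 1 ≤ q by omega)] at h
    exact h
  have hmZ : (d : ℤ) * m + q = (q : ℤ) ^ 2 + 1 := by exact_mod_cast hm
  have hM0 : (0 : ℤ) < (q : ℤ) ^ 2 - q + 1 := by nlinarith
  rcases (show q % 3 = 2 ∨ q % 3 ≠ 2 from em _) with h3 | h3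
  · rw [if_pos h3] at hd; subst hd
    push_cast at hmZ
    have hQ : (k : ℤ) * l * m + k + l = (q : ℤ) ^ 4 + 2 * q ^ 3 - 3 * q - 3 :=
      mul_left_cancel₀ hM0.ne' (by linear_combination habZ - ((k : ℤ) * l * m + k + l) * hmZ)
    set j : ℤ := 3 * ((q : ℤ) ^ 2 + 3 * q + 2) - k * l with hj
    have hs : 3 * ((k : ℤ) + l + 4 * q + 5) = j * ((q : ℤ) ^ 2 - q + 1) := by
      rw [hj]; linear_combination 3 * hQ - (k : ℤ) * l * hmZ
    have hj0 : 1 ≤ j := by nlinarith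
    lift j to ℕ using by omega with jn
    rcases le_total k l with hkl | hkl
    · exact hne (core_three (j := jn) hq (by omega) hkl (by omega) (by linear_combination hj) hs)
    · exact hne (core_three (j := jn) hq (by omega) hkl (by omega) (by linear_combination hj) (by linear_combination hs))
  · rw [if_neg h3] at hd; subst hd
    push_cast at hmZ
    have hQ : 3 * ((k : ℤ) * l * m + k + l) = (q : ℤ) ^ 4 + 2 * q ^ 3 - 3 * q - 3 :=
      mul_left_cancel₀ hM0.ne' (by linear_combination habZ - 3 * ((k : ℤ) * l * m + k + l) * hmZ)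
    set j : ℤ := (q : ℤ) ^ 2 + 3 * q + 2 - 3 * k * l with hj
    have hs : 3 * ((k : ℤ) + l) + 4 * q + 5 = j * ((q : ℤ) ^ 2 - q + 1) := by
      rw [hj]; linear_combination hQ - 3 * (k : ℤ) * l * hmZ
    have hj0 : 1 ≤ j := by nlinarith
    lift j to ℕ using by omega with jn
    rcases le_total k l with hkl | hkl
    · exact list_exclude hq hne (core_one (j := jn) hq (by omega) hkl (by omega) (by linear_combination hj) hs)
    · exact list_exclude hq hne (core_one (j := jn) hq (by omega) hkl (by omega) (by linear_combination hj)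
        (by linear_combination hs))

theorem four_cases : ∀ k : Fin 124, 1 + 13 * k.val ∣ 1600 → 1600 / (1 + 13 * k.val) % 13 = 1 →
    k.val = 0 ∨ 1600 / (1 + 13 * k.val) ≤ 64 := by
  decide +kernel

/-- The indices for four elements. -/
theorem solve_four {a b : ℕ} (hab : a * b = 1600) (ha : a % 13 = 1) (hb : b % 13 = 1) :
    a = 1 ∨ b ≤ 64 := by
  have hale : a ≤ 1600 := Nat.le_of_dvd (by norm_num) ⟨b, hab.symm⟩
  have ha1 : 1 + 13 * (a / 13) = a := by omega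
  have hb1 : 1600 / a = b := by
    rw [← hab, Nat.mul_div_cancel_left _ (by omega)]
  have := four_cases ⟨a / 13, by omega⟩ (by rw [ha1]; exact ⟨b, hab.symm⟩) (by rw [ha1, hb1]; exact hb)
  simp only [ha1, hb1] at this
  omega

theorem eight_cases : ∀ i : Fin 51, ∀ j : Fin 100, 1 + 19 * (100 * i.val + j.val) ∣ 96768 →
    96768 / (1 + 19 * (100 * i.val + j.val)) % 19 = 1 →
    100 * i.val + j.val = 0 ∨ 96768 / (1 + 19 * (100 * i.val + j.val)) ≤ 512 ∨
      1 + 19 * (100 * i.val + j.val) = 96 := by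
  decide +kernel

/-- The indices for eight elements. -/
theorem solve_eight {a b : ℕ} (hab : a * b = 96768) (ha : a % 19 = 1) (hb : b % 19 = 1) :
    a = 1 ∨ b ≤ 512 ∨ a = 96 := by
  have hale : a ≤ 96768 := Nat.le_of_dvd (by norm_num) ⟨b, hab.symm⟩
  have ha1 : 1 + 19 * (a / 19) = a := by omega
  have hb1 : 96768 / a = b := by
    rw [← hab, Nat.mul_div_cancel_left _ (by omega)]
  have hk : 100 * (a / 19 / 100) + a / 19 % 100 = a / 19 := Nat.div_add_mod _ _
  have := eight_cases ⟨a / 19 / 100, by omega⟩ ⟨a / 19 % 100, by omega⟩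
    (by simp only [hk]; rw [ha1]; exact ⟨b, hab.symm⟩) (by simp only [hk]; rw [ha1, hb1]; exact hb)
  simp only [hk, ha1, hb1] at this
  omega

end CfsgLib.MaxSub.SU3Max.Cubic
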