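/-
The number of norm-one elements of an adjoint-closed field of matrices.
-/
import Cfsg.Agent.Lib.Aschbacher.Singer

set_option autoImplicit false
set_option linter.unusedSectionVars false

namespace CfsgLib.MaxSub.SU3Max.Cubic

open Matrix Module CfsgLib.Aschbacher

variable {F : Type*} [Field F] {ι : Type} [Fintype ι] [DecidableEq ι] {σ : F ≃+* F}
  {f : (ι → F) → (ι → F) → F}

/-- There are at least `q ^ r + 1` norm-one elements. -/
theorem card_norm_one [Fintype F] [Nonempty ι] (hf : Cfsg.Geo.IsUnitaryForm σ f) {q r : ℕ}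
    (hF : Fintype.card F = q ^ 2) {K : Subalgebra F (Matrix ι ι F)}
    (hK : Cfsg.Geo.IsFieldSubalgebra r K) (hKa : Cfsg.Geo.IsAdjointClosedFor f K) :
    q ^ r + 1 ≤ Nat.card {c : GL ι F // (c : Matrix ι ι F) ∈ K ∧
      ∀ u v, f ((c : Matrix ι ι F) *ᵥ u) ((c : Matrix ι ι F) *ᵥ v) = f u v} := by
  classical
  have hs := isSesq_of_unitary hf
  letI : Field K := (finite_isField hK).toField
  haveI : Fintype K := Fintype.ofFinite _
  choose st hst hst' using hKa
  let s : K → K := fun a => ⟨st a a.2, hst a a.2⟩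
  have hadj : ∀ (a : K) u v, f ((a : Matrix ι ι F) *ᵥ u) v = f u ((s a : Matrix ι ι F) *ᵥ v) :=
    fun a => hst' a a.2
  have huniq : ∀ (a b : K), (∀ u v, f ((a : Matrix ι ι F) *ᵥ u) v =
      f u ((b : Matrix ι ι F) *ᵥ v)) → s a = b := fun a b h =>
    Subtype.ext (mulVec_ext_of_form hf fun u v => (hadj a u v).symm.trans (h u v))
  have hsadd : ∀ a b : K, s (a + b) = s a + s b := fun a b => huniq _ _ fun u v => by
    show f (((a : Matrix ι ι F) + (b : Matrix ι ι F)) *ᵥ u) v = f u (((s a : Matrix ι ι F) + (s b : Matrix ι ι F)) *ᵥ v)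
    rw [Matrix.add_mulVec, Matrix.add_mulVec, hs.add_left, hs.add_right, hadj, hadj]
  have hsmul : ∀ a b : K, s (a * b) = s a * s b := fun a b => huniq _ _ fun u v => by
    rw [mul_comm (s a)]
    show f (((a : Matrix ι ι F) * (b : Matrix ι ι F)) *ᵥ u) v = f u (((s b : Matrix ι ι F) * (s a : Matrix ι ι F)) *ᵥ v)
    rw [← Matrix.mulVec_mulVec, ← Matrix.mulVec_mulVec, hadj, hadj]
  have hs1 : s 1 = 1 := huniq _ _ fun u v => by simp
  have hss : ∀ a : K, s (s a) = a := fun a => huniq _ _ fun u v => by
    rw [hf.herm, ← hadj, ← hf.herm]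
  let S : K →+* K :=
    { toFun := s, map_one' := hs1, map_mul' := hsmul
      map_zero' := by
        have h : s 0 = s 0 + s 0 := by rw [← hsadd, add_zero]
        exact left_eq_add.1 h
      map_add' := hsadd }
  -- some element moves
  obtain ⟨μ, hμ⟩ : ∃ μ, σ μ ≠ μ := by
    by_contra h
    push Not at h
    exact hf.ne_refl (RingEquiv.ext h)
  let t : K := algebraMap F K μ
  have hst0 : s t = algebraMap F K (σ μ) := huniq _ _ fun u v => by
    simp [t, Algebra.algebraMap_eq_smul_one, Matrix.smul_mulVec, hs.smul_left, hs.smul_right,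
      hf.involutive]
  have ht : s t ≠ t := fun h => hμ ((algebraMap F K).injective (hst0.symm.trans h))
  -- the fixed field has `q ^ r` elements
  let L : Subfield K := S.eqLocusField (RingHom.id K)
  have hL : ∀ a, a ∈ L ↔ s a = a := fun a => Iff.rfl
  haveI : Fintype L := Fintype.ofFinite _
  have hbij : Function.Bijective fun p : L × L => (p.1 : K) + p.2 * t := by
    constructor
    · rintro ⟨a, b⟩ ⟨c, d⟩ h
      have h2 : s ((a : K) + b * t) = s ((c : K) + d * t) := congrArg s h
      simp only [hsadd, hsmul, (hL _).1 a.2, (hL _).1 b.2, (hL _).1 c.2, (hL _).1 d.2] at h2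
      have h' : (a : K) + b * t = c + d * t := h
      have h3 : ((b : K) - d) * (s t - t) = 0 := by linear_combination h2 - h'
      have hbd : (b : K) = d :=
        sub_eq_zero.1 ((mul_eq_zero.1 h3).resolve_right (sub_ne_zero.2 ht))
      have hac : (a : K) = c := by linear_combination h' - t * hbd
      exact Prod.ext (Subtype.ext hac) (Subtype.ext hbd)
    · intro a
      let b := (s a - a) / (s t - t)
      have hb : b ∈ L := by
        rw [hL]
        show S b = b
        simp only [b, map_div₀, map_sub]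
        show (s (s a) - s a) / (s (s t) - s t) = _
        rw [hss, hss, div_eq_div_iff (sub_ne_zero.2 (Ne.symm ht)) (sub_ne_zero.2 ht)]
        ring
      have hc : a - b * t ∈ L := by
        rw [hL]
        show S (a - b * t) = _
        rw [map_sub, map_mul]
        show s a - s b * s t = _
        rw [(hL b).1 hb]
        have h4 : b * (s t - t) = s a - a := div_mul_cancel₀ _ (sub_ne_zero.2 ht)
        linear_combination -h4
      exact ⟨(⟨_, hc⟩, ⟨b, hb⟩), sub_add_cancel a (b * t)⟩
  have hcK : Fintype.card K = (q ^ r) ^ 2 := by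
    have h := Module.natCard_eq_pow_finrank (K := F) (V := K)
    rw [hK.finrank_eq, Nat.card_eq_fintype_card, Nat.card_eq_fintype_card, hF] at h
    rw [h, ← pow_mul, ← pow_mul, mul_comm]
  have hcL : Fintype.card L = q ^ r := by
    have h := Fintype.card_congr (Equiv.ofBijective _ hbij)
    rw [Fintype.card_prod, hcK, ← pow_two] at h
    exact Nat.pow_left_injective two_ne_zero h
  -- the norm-one group is the image of `b ↦ b / s b`
  have hs0 : ∀ b : K, b ≠ 0 → s b ≠ 0 := fun b hb => (map_ne_zero S).2 hb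
  let ψ : Kˣ →* Kˣ :=
    { toFun := fun b => Units.mk0 ((b : K) / s b) (div_ne_zero b.ne_zero (hs0 _ b.ne_zero))
      map_one' := Units.ext (by simp [hs1])
      map_mul' := fun a b => Units.ext (by simp [hsmul, mul_div_mul_comm]) }
  have hker : Nat.card ψ.ker = Nat.card Lˣ := by
    refine (Nat.card_congr ?_).symm
    exact
      { toFun := fun u => ⟨Units.map (L.subtype : L →* K) u, by
          rw [MonoidHom.mem_ker]
          refine Units.ext ?_
          have hu : s ((u : L) : K) = ((u : L) : K) := (hL _).1 (u : L).2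
          simp [ψ, hu]⟩
        invFun := fun u => Units.mk0 ⟨((u : Kˣ) : K), (hL _).2 (by
            have h := congrArg Units.val (MonoidHom.mem_ker.1 u.2)
            simp only [ψ, MonoidHom.coe_mk, OneHom.coe_mk, Units.val_mk0, Units.val_one] at h
            exact ((div_eq_one_iff_eq (hs0 _ (u : Kˣ).ne_zero)).1 h).symm)⟩
          (fun h => (u : Kˣ).ne_zero (congrArg Subtype.val h))
        left_inv := fun u => by ext; rfl
        right_inv := fun u => by ext; rfl }
  have hrange : Nat.card ψ.range = q ^ r + 1 := by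
    have h1 := Subgroup.card_mul_index ψ.ker
    rw [Subgroup.index_ker, hker, Nat.card_units, Nat.card_units, Nat.card_eq_fintype_card (α := L),
      Nat.card_eq_fintype_card (α := K), hcL, hcK] at h1
    have hq := one_lt_q hF
    have hr : 0 < r := by
      rw [← hK.finrank_eq]
      exact Module.finrank_pos
    have h2 : 1 < q ^ r := Nat.one_lt_pow hr.ne' hq
    have h3 : ((q ^ r) ^ 2 - 1) = (q ^ r + 1) * (q ^ r - 1) := by rw [← Nat.sq_sub_sq, one_pow]
    rw [h3, mul_comm] at h1
    exact Nat.eq_of_mul_eq_mul_right (by omega) h1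
  let ε : Kˣ →* GL ι F := Units.map (K.val : K →* Matrix ι ι F)
  have hεinj : Function.Injective ε := fun a b h => Units.ext (Subtype.ext (congrArg Units.val h))
  haveI : Finite {c : GL ι F // (c : Matrix ι ι F) ∈ K ∧
      ∀ u v, f ((c : Matrix ι ι F) *ᵥ u) ((c : Matrix ι ι F) *ᵥ v) = f u v} :=
    Subtype.finite
  rw [← hrange]
  refine Nat.card_le_card_of_injective (fun x => ⟨ε x.1, ⟨((x.1 : K)).2, fun u v => ?_⟩⟩)
    fun x y e => Subtype.ext (hεinj (congrArg Subtype.val e))
  obtain ⟨_, b, rfl⟩ := x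
  show f (((ψ b : K) : Matrix ι ι F) *ᵥ u) (((ψ b : K) : Matrix ι ι F) *ᵥ v) = f u v
  have h1 : s (ψ b : K) * (ψ b : K) = 1 := by
    have hb := (b : Kˣ).ne_zero
    simp only [ψ, MonoidHom.coe_mk, OneHom.coe_mk, Units.val_mk0]
    show S ((b : K) / s b) * _ = 1
    rw [map_div₀]
    show s b / s (s b) * _ = 1
    rw [hss]
    field_simp [hs0 _ hb]
  rw [hadj, Matrix.mulVec_mulVec]
  have h7 := congrArg (fun x : K => (x : Matrix ι ι F)) h1
  simp only [Subalgebra.coe_mul, Subalgebra.coe_one] at h7
  rw [h7, Matrix.one_mulVec]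

end CfsgLib.MaxSub.SU3Max.Cubic
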