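/-
The cubic torus of `SU_3` and the congruence for the overgroups of its normaliser.
-/
import Cfsg.Agent.Lib.MaxSub.SLThree.Cubic.Torus
import Cfsg.Agent.Lib.MaxSub.SU3Max.Cubic.NormCount
import Cfsg.Agent.Lib.MaxSub.SU3Max.Basic
import Cfsg.Agent.Lib.SLCard

set_option autoImplicit false
set_option maxHeartbeats 800000
set_option linter.unusedSectionVars false

namespace CfsgLib.MaxSub.SU3Max.Cubic

open Matrix Module Cfsg Cfsg.Geo CfsgLib.MaxSub.SLThree.Cubic

variable {F : Type*} [Field F] [Fintype F] {q : ℕ} {K : Subalgebra F (Matrix (Fin 3) (Fin 3) F)}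

local notation "SL" => Matrix.SpecialLinearGroup (Fin 3) F
local notation "Mn" => Matrix (Fin 3) (Fin 3) F
local notation "h" => Cfsg.hermForm 3 F q

/-- The torus inside `SU_3`. -/
def TU (q : ℕ) (K : Subalgebra F (Matrix (Fin 3) (Fin 3) F)) : Subgroup SL := T K ⊓ Cfsg.SU 3 F q

/-- The normaliser inside `SU_3`. -/
def NSU (q : ℕ) (K : Subalgebra F (Matrix (Fin 3) (Fin 3) F)) : Subgroup SL := NS K ⊓ Cfsg.SU 3 F q

theorem TU_le_NSU (hK : IsFieldSubalgebra 3 K) : TU q K ≤ NSU q K :=
  inf_le_inf_right _ (T_le_NS hK)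

theorem card_F_sq (hF : Fintype.card F = q ^ 2) :
    Fintype.card F ^ 2 + Fintype.card F + 1 = (q ^ 2 + q + 1) * (q ^ 2 + 1 - q) := by
  have : q ≤ q ^ 2 + 1 := (Nat.le_self_pow two_ne_zero q).trans (by omega)
  rw [hF]
  zify [this]
  ring

theorem T_cyclic (hK : IsFieldSubalgebra 3 K) : IsCyclic (T K) := by
  letI : Field ↥K := (Elusive.isField_of_fieldSubalgebra hK (by norm_num)).toField
  haveI : Finite ↥K := Finite.of_injective _ Subtype.val_injective
  let ι : T K →* ↥K :=
    { toFun := fun t => ⟨t.1.1, t.2⟩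
      map_one' := rfl
      map_mul' := fun a b => rfl }
  exact isCyclic_of_subgroup_isDomain ι fun a b e =>
    Subtype.ext (Subtype.ext (congrArg (fun x : ↥K => (x : Mn)) e))

/-- The order of the torus. -/
theorem card_TU (hF : Fintype.card F = q ^ 2) (hK : IsFieldSubalgebra 3 K)
    (hKa : IsAdjointClosedFor h K) : Nat.card (TU q K) = q ^ 2 + 1 - q := by
  classical
  have hq := CfsgLib.Aschbacher.one_lt_q hF
  obtain ⟨τ, hτ, hf⟩ := CfsgLib.Aschbacher.exists_unitary_hermForm (n := 3) hF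
  have hqle : q ≤ q ^ 2 + 1 := (Nat.le_self_pow two_ne_zero q).trans (by omega)
  have h31 : q ^ 3 + 1 = (q + 1) * (q ^ 2 + 1 - q) := by zify [hqle]; ring
  have htor := (CfsgLib.Aschbacher.norm_one_torus hf hF hK hKa).1
  haveI := T_cyclic hK
  refine le_antisymm ?_ ?_
  · -- exponent
    have hgcd : Nat.gcd (Nat.card (T K)) (q ^ 3 + 1) = q ^ 2 + 1 - q := by
      rw [card_T hK, card_F_sq hF, h31, Nat.gcd_mul_right]
      have h1 : Nat.gcd (q ^ 2 + q + 1) (q + 1) = 1 := by
        rw [show q ^ 2 + q + 1 = 1 + q * (q + 1) by ring, Nat.gcd_add_mul_right_left]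
        exact Nat.gcd_one_left _
      rw [h1, one_mul]
    letI : CommGroup (T K) := IsCyclic.commGroup
    have hker := IsCyclic.card_powMonoidHom_ker (G := T K) (q ^ 3 + 1)
    rw [hgcd] at hker
    rw [← hker]
    refine Nat.card_le_card_of_injective (fun t : TU q K => ⟨⟨t.1, t.2.1⟩, ?_⟩)
      fun a b e => Subtype.ext (congrArg (Subtype.val ∘ Subtype.val) e)
    rw [MonoidHom.mem_ker]
    refine Subtype.ext (Matrix.SpecialLinearGroup.toGL_injective ?_)
    show Matrix.SpecialLinearGroup.toGL (t.1 ^ (q ^ 3 + 1)) = Matrix.SpecialLinearGroup.toGL 1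
    rw [map_pow, map_one]
    exact htor _ t.2.1 fun u v => t.2.2 u v
  · -- enough elements
    let A : Subgroup (GL (Fin 3) F) :=
      { carrier := {c | (c : Mn) ∈ K ∧ ∀ u v, h ((c : Mn) *ᵥ u) ((c : Mn) *ᵥ v) = h u v}
        one_mem' := ⟨K.one_mem, fun u v => by rw [Units.val_one, Matrix.one_mulVec, Matrix.one_mulVec]⟩
        mul_mem' := fun {a b} ha hb => ⟨K.mul_mem ha.1 hb.1, fun u v => by
          rw [Units.val_mul, ← Matrix.mulVec_mulVec, ← Matrix.mulVec_mulVec, ha.2, hb.2]⟩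
        inv_mem' := fun {a} ha => by
          have e : a⁻¹ = a ^ (orderOf a - 1) := inv_eq_of_mul_eq_one_right (by
            rw [← pow_succ', Nat.sub_add_cancel (orderOf_pos a), pow_orderOf_eq_one])
          refine ⟨?_, fun u v => ?_⟩
          · rw [e, Units.val_pow_eq_pow_val]; exact pow_mem ha.1 _
          · conv_rhs => rw [← Matrix.one_mulVec u, ← Matrix.one_mulVec v, ← Units.val_one, ← mul_inv_cancel a,
              Units.val_mul, ← Matrix.mulVec_mulVec, ← Matrix.mulVec_mulVec, ha.2] }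
    have hA : q ^ 3 + 1 ≤ Nat.card A := card_norm_one hf hF hK hKa
    let d : A →* Fˣ := Matrix.GeneralLinearGroup.det.comp A.subtype
    have hr : Nat.card d.range ≤ q + 1 := by
      have h1 : d.range ≤ (powMonoidHom (q + 1) : Fˣ →* Fˣ).ker := by
        rintro _ ⟨g, rfl⟩
        exact CfsgLib.UnitaryBasic.det_pow hF g.2.2
      refine le_trans (Subgroup.card_le_of_le h1) (le_of_eq ?_)
      have e : q ^ 2 - 1 = (q + 1) * (q - 1) := by simpa using Nat.sq_sub_sq q 1
      rw [IsCyclic.card_powMonoidHom_ker, Nat.card_units, Nat.card_eq_fintype_card (α := F), hF, e,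
        Nat.gcd_eq_right (dvd_mul_right _ _)]
    have hk : Nat.card d.ker ≤ Nat.card (TU q K) := by
      refine Nat.card_le_card_of_injective (fun a : d.ker =>
        ⟨⟨((a.1.1 : GL (Fin 3) F) : Mn), congrArg Units.val (MonoidHom.mem_ker.1 a.2)⟩, a.1.2.1, a.1.2.2⟩) ?_
      intro a b e
      exact Subtype.ext (Subtype.ext (Units.ext (congrArg (fun x : TU q K => x.1.1) e)))
    have h2 := d.ker.card_mul_index
    rw [Subgroup.index_ker] at h2
    refine Nat.le_of_mul_le_mul_right (c := q + 1) ?_ (by omega)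
    calc (q ^ 2 + 1 - q) * (q + 1) = q ^ 3 + 1 := by rw [h31, mul_comm]
      _ ≤ Nat.card d.ker * Nat.card d.range := by rw [h2]; exact hA
      _ ≤ _ := Nat.mul_le_mul hk hr

/-- The scalars in `SU_3`. -/
theorem card_center_inf (hF : Fintype.card F = q ^ 2) :
    Nat.card (Subgroup.center SL ⊓ Cfsg.SU 3 F q : Subgroup SL) = if q % 3 = 2 then 3 else 1 := by
  have hq := CfsgLib.Aschbacher.one_lt_q hF
  have hcz := CfsgLib.SLCard.card_SL_center (F := F) (n := 3) (by norm_num)
  have hiff : ∀ z ∈ Subgroup.center SL, z ∈ Cfsg.SU 3 F q ↔ ∀ c : F, z.1 = c • (1 : Mn) → c ^ (q + 1) = 1 := by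
    intro z hz
    constructor
    · intro hzu c hc
      have e := hzu (Pi.single 0 1) (Pi.single 0 1)
      change h (z.1 *ᵥ _) (z.1 *ᵥ _) = _ at e
      rw [hc, Matrix.smul_mulVec, Matrix.one_mulVec, UnitaryTransvection.h_smul_left,
        UnitaryTransvection.h_smul_right hF, UnitaryTransvection.frob_apply,
        UnitaryOrder.herm_single_right hF, Pi.single_eq_same, mul_one] at e
      rw [pow_succ']
      simpa using e
    · intro hc
      obtain ⟨c, hzc⟩ := scalar_of_mem_center hz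
      intro u v
      show h (z.1 *ᵥ u) (z.1 *ᵥ v) = h u v
      rw [hzc, Matrix.smul_mulVec, Matrix.smul_mulVec, Matrix.one_mulVec, Matrix.one_mulVec,
        UnitaryTransvection.h_smul_left, UnitaryTransvection.h_smul_right hF, UnitaryTransvection.frob_apply,
        ← mul_assoc, ← pow_succ', hc c hzc, one_mul]
  have hcube : ∀ z ∈ Subgroup.center SL, ∀ c : F, z.1 = c • (1 : Mn) → c ^ 3 = 1 := fun z _ c hc => by
    have := z.2
    rwa [hc, Matrix.det_smul, Matrix.det_one, mul_one, Fintype.card_fin] at this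
  split_ifs with h3
  · have e : Subgroup.center SL ⊓ Cfsg.SU 3 F q = Subgroup.center SL := inf_eq_left.2 fun z hz =>
      (hiff z hz).2 fun c hc => by
        obtain ⟨r, hr⟩ : 3 ∣ q + 1 := by omega
        rw [hr, pow_mul, hcube z hz c hc, one_pow]
    rw [e, hcz, hF]
    refine Nat.gcd_eq_left ?_
    have : q ^ 2 - 1 = (q + 1) * (q - 1) := by simpa using Nat.sq_sub_sq q 1
    rw [this]
    exact dvd_mul_of_dvd_left (by omega) _
  · rw [Subgroup.card_eq_one, eq_bot_iff]
    rintro z ⟨hz, hzu⟩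
    obtain ⟨c, hc⟩ := scalar_of_mem_center hz
    have h1 := (hiff z hz).1 hzu c hc
    have h2 := pow_gcd_eq_one.mpr ⟨h1, hcube z hz c hc⟩
    rw [((Nat.Prime.coprime_iff_not_dvd Nat.prime_three).2 (by omega : ¬ 3 ∣ q + 1)).symm.gcd_eq_one,
      pow_one] at h2
    rw [Subgroup.mem_bot]
    exact Subtype.ext (by rw [hc, h2, one_smul]; rfl)

theorem center_inf_le (K : Subalgebra F (Matrix (Fin 3) (Fin 3) F)) :
    Subgroup.center SL ⊓ Cfsg.SU 3 F q ≤ TU q K := inf_le_inf_right _ (center_le_T K)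

/-- The modulus. -/
theorem index_center (hF : Fintype.card F = q ^ 2) (hK : IsFieldSubalgebra 3 K)
    (hKa : IsAdjointClosedFor h K) :
    (if q % 3 = 2 then 3 else 1) * ((Subgroup.center SL).subgroupOf (TU q K)).index = q ^ 2 + 1 - q := by
  rw [← card_TU hF hK hKa, ← ((Subgroup.center SL).subgroupOf (TU q K)).card_mul_index]
  congr 1
  rw [← card_center_inf hF]
  refine Nat.card_congr
    { toFun := fun z => ⟨⟨z.1, center_inf_le K z.2⟩, Subgroup.mem_subgroupOf.2 z.2.1⟩
      invFun := fun z => ⟨z.1.1, Subgroup.mem_subgroupOf.1 z.2, z.1.2.2⟩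
      left_inv := fun _ => rfl
      right_inv := fun _ => rfl }

theorem pow_three_mem_T (hK : IsFieldSubalgebra 3 K) {g : SL} (hg : g ∈ NSU q K) : g ^ 3 ∈ T K :=
  (card_NS hK).2 g hg.1

/-- Overgroups of the normaliser. -/
theorem index_modEq (hK : IsFieldSubalgebra 3 K) {M : Subgroup SL} (hM : NSU q K ≤ M)
    (hMU : M ≤ Cfsg.SU 3 F q) :
    ((NSU q K).subgroupOf M).index ≡ 1 [MOD ((Subgroup.center SL).subgroupOf (TU q K)).index] := by
  classical
  set A := (TU q K).subgroupOf M with hAdef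
  set B := (NSU q K).subgroupOf M with hBdef
  set X := ↥M ⧸ B
  haveI : Finite X := inferInstance
  let e := MulAction.selfEquivSigmaOrbitsQuotientStabilizer A X
  have hfix : ∀ x : X, ∀ a : A, a • x = x → a.1.1 ∉ Subgroup.center SL → x = ((1 : M) : X) := by
    intro x a hax haz
    obtain ⟨g, rfl⟩ := QuotientGroup.mk_surjective x
    have h1 : (a.1 * g)⁻¹ * g ∈ B := QuotientGroup.eq.1 hax
    have h2 : g.1⁻¹ * a.1.1 * g.1 ∈ NSU q K := by
      have := inv_mem (Subgroup.mem_subgroupOf.1 h1)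
      simpa [mul_assoc] using this
    have h3 := pow_three_mem_T hK h2
    rw [show (g.1⁻¹ * a.1.1 * g.1) ^ 3 = g.1⁻¹ * a.1.1 ^ 3 * g.1 by simp [pow_succ, mul_assoc]] at h3
    have haT : a.1.1 ∈ T K := (Subgroup.mem_subgroupOf.1 a.2).1
    have := mem_NS_of_conj hK (pow_mem haT 3) (pow_three_not_center hK haT haz) h3
    rw [eq_comm, QuotientGroup.eq, inv_one, one_mul]
    exact Subgroup.mem_subgroupOf.2 ⟨this, hMU g.2⟩
  have hcent : ∀ x : X, ∀ a : A, a.1.1 ∈ Subgroup.center SL → a • x = x := by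
    intro x a haz
    obtain ⟨g, rfl⟩ := QuotientGroup.mk_surjective x
    show ((a.1 * g : M) : X) = (g : X)
    rw [QuotientGroup.eq]
    refine Subgroup.mem_subgroupOf.2 ?_
    show (a.1.1 * g.1)⁻¹ * g.1 ∈ NSU q K
    rw [← (Subgroup.mem_center_iff.1 haz g.1), _root_.mul_inv_rev, mul_assoc, inv_mul_cancel, mul_one]
    exact inv_mem (TU_le_NSU hK (Subgroup.mem_subgroupOf.1 a.2))
  set m := ((Subgroup.center SL).subgroupOf (TU q K)).index with hm
  have hstab : ∀ x : X, x ≠ ((1 : M) : X) → (MulAction.stabilizer A x).index = m := by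
    intro x hx
    let eA : A ≃* TU q K := Subgroup.subgroupOfEquivOfLe ((TU_le_NSU hK).trans hM)
    rw [hm, ← Subgroup.index_comap_of_surjective _ (f := eA.toMonoidHom) eA.surjective]
    congr 1
    ext a
    rw [MulAction.mem_stabilizer_iff, Subgroup.mem_comap, Subgroup.mem_subgroupOf]
    exact ⟨fun hh => by_contra fun hz => hx (hfix x a hh hz), hcent x a⟩
  have hbase : ∀ a : A, a • ((1 : M) : X) = ((1 : M) : X) := fun a => by
    show ((a.1 * 1 : M) : X) = _
    rw [QuotientGroup.eq, mul_one, mul_one]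
    exact inv_mem (Subgroup.mem_subgroupOf.2 (TU_le_NSU hK (Subgroup.mem_subgroupOf.1 a.2)))
  haveI : Fintype (MulAction.orbitRel.Quotient A X) := Fintype.ofFinite _
  set ω0 : MulAction.orbitRel.Quotient A X := Quotient.mk'' ((1 : M) : X)
  have hout : ω0.out = ((1 : M) : X) := by
    obtain ⟨a, ha⟩ := MulAction.orbitRel_apply.1 (Quotient.eq''.1 (Quotient.out_eq' ω0))
    exact ha.symm.trans (hbase a)
  rw [Subgroup.index, Nat.card_congr e, Nat.card_sigma, ← Finset.add_sum_erase _ _ (Finset.mem_univ ω0)]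
  have h0 : Nat.card (A ⧸ MulAction.stabilizer A ω0.out) = 1 := by
    rw [hout, ← Subgroup.index, Subgroup.index_eq_one]
    exact eq_top_iff.2 fun a _ => hbase a
  rw [h0, Finset.sum_congr rfl fun ω hω => (show Nat.card (A ⧸ MulAction.stabilizer A ω.out) = m from
    hstab _ fun he => (Finset.mem_erase.1 hω).1 (by
      rw [← Quotient.out_eq' ω, he])), Finset.sum_const, smul_eq_mul]
  exact (Nat.modEq_iff_dvd' (by omega)).2 ⟨_, (Nat.add_sub_cancel_left _ _).trans (mul_comm _ _)⟩ |>.symm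

/-- The normaliser is the torus or three times as large. -/
theorem card_NSU_cases (hK : IsFieldSubalgebra 3 K) :
    Nat.card (NSU q K) = Nat.card (TU q K) ∨ Nat.card (NSU q K) = 3 * Nat.card (TU q K) := by
  have h1 : (T K).relIndex (NSU q K) ∣ (T K).relIndex (NS K) := by
    haveI : ((T K).subgroupOf (NS K)).Normal := by
      constructor
      rintro ⟨t, htN⟩ ht ⟨g, hg⟩
      rw [Subgroup.mem_subgroupOf] at ht ⊢
      show g * t * g⁻¹ ∈ T K
      exact (mem_NS.1 hg t.1).1 ht
    let φ : NSU q K →* NS K ⧸ (T K).subgroupOf (NS K) :=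
      (QuotientGroup.mk' _).comp (Subgroup.inclusion inf_le_left)
    have hk : φ.ker = (T K).subgroupOf (NSU q K) := by
      ext x
      rw [MonoidHom.mem_ker, MonoidHom.comp_apply, QuotientGroup.mk'_apply, QuotientGroup.eq_one_iff]
      exact Iff.rfl
    show ((T K).subgroupOf (NSU q K)).index ∣ ((T K).subgroupOf (NS K)).index
    rw [← hk, Subgroup.index_ker]
    exact Subgroup.card_subgroup_dvd_card _
  have h3 : (T K).relIndex (NS K) = 3 := by
    have hh := ((T K).subgroupOf (NS K)).card_mul_index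
    rw [Nat.card_congr (Subgroup.subgroupOfEquivOfLe (T_le_NS hK)).toEquiv, (card_NS hK).1, mul_comm 3] at hh
    exact Nat.eq_of_mul_eq_mul_left Nat.card_pos hh
  rw [h3] at h1
  have hh := ((T K).subgroupOf (NSU q K)).card_mul_index
  have e : Nat.card ((T K).subgroupOf (NSU q K)) = Nat.card (TU q K) := Nat.card_congr
    { toFun := fun z => ⟨z.1.1, Subgroup.mem_subgroupOf.1 z.2, z.1.2.2⟩
      invFun := fun z => ⟨⟨z.1, TU_le_NSU hK z.2⟩, Subgroup.mem_subgroupOf.2 z.2.1⟩
      left_inv := fun _ => rfl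
      right_inv := fun _ => rfl }
  rw [e] at hh
  rcases (Nat.dvd_prime Nat.prime_three).1 h1 with e' | e'
  · left; rw [← hh, show ((T K).subgroupOf (NSU q K)).index = 1 from e', mul_one]
  · right; rw [← hh, show ((T K).subgroupOf (NSU q K)).index = 3 from e', mul_comm]

end CfsgLib.MaxSub.SU3Max.Cubic
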