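/-
The exceptional index for eight elements: a Frobenius group on the isotropic points.
-/
import Cfsg.Agent.Lib.MaxSub.SU3Max.Cubic.Torus
import Cfsg.Agent.Lib.HermCount
import Cfsg.Agent.Lib.Frobenius.Kernel
import Cfsg.Agent.Lib.UnitarySimple

set_option autoImplicit false
set_option maxHeartbeats 800000
set_option linter.unusedSectionVars false

namespace CfsgLib.MaxSub.SU3Max.Cubic

open Matrix Module Cfsg Cfsg.Geo CfsgLib.MaxSub.SLThree.Cubic CfsgLib.UnitaryTransvection

variable {F : Type*} [Field F] [Fintype F] {q : ℕ} {K : Subalgebra F (Matrix (Fin 3) (Fin 3) F)}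

local notation "SL" => Matrix.SpecialLinearGroup (Fin 3) F
local notation "Mn" => Matrix (Fin 3) (Fin 3) F
local notation "V" => Fin 3 → F
local notation "h" => Cfsg.hermForm 3 F q

/-- A member of `p`-power order with two fixed isotropic points is trivial. -/
theorem eq_one_of_two_points (hF : Fintype.card F = q ^ 2) {p : ℕ} [Fact p.Prime] [CharP F p]
    (g : Cfsg.SU 3 F q) {n : ℕ} (hg : g ^ p ^ n = 1) {a b : V} (ha0 : a ≠ 0) (hb0 : b ≠ 0)
    (ha : h a a = 0) (hb : h b b = 0) (hne : Submodule.span F {a} ≠ Submodule.span F ({b} : Set V))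
    {x y : F} (hga : UnitarySimple.mat g *ᵥ a = x • a) (hgb : UnitarySimple.mat g *ᵥ b = y • b) : g = 1 := by
  obtain ⟨τ, hτ, hf⟩ := CfsgLib.Aschbacher.exists_unitary_hermForm (n := 3) hF
  have hpow : ∀ (v : V) (c : F), UnitarySimple.mat g *ᵥ v = c • v → v ≠ 0 → c = 1 := by
    intro v c hv hv0
    have hit : ∀ m : ℕ, UnitarySimple.mat (g ^ m) *ᵥ v = c ^ m • v := fun m => by
      induction m with
      | zero => rw [pow_zero, pow_zero, UnitarySimple.mat_one, Matrix.one_mulVec, one_smul]
      | succ m ih =>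
        rw [pow_succ, UnitarySimple.mat_mul, ← Matrix.mulVec_mulVec, hv, Matrix.mulVec_smul, ih, smul_smul,
          pow_succ']
    have h1 := hit (p ^ n)
    rw [hg, UnitarySimple.mat_one, Matrix.one_mulVec] at h1
    have h2 : c ^ p ^ n = 1 := smul_left_injective F hv0 (h1.symm.trans (one_smul F v).symm)
    have h3 : (c - 1) ^ p ^ n = 0 := by rw [sub_pow_char_pow, one_pow, h2, sub_self]
    exact sub_eq_zero.1 (eq_zero_of_pow_eq_zero h3)
  rw [hpow a x hga ha0, one_smul] at hga
  rw [hpow b y hgb hb0, one_smul] at hgb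
  have hli : LinearIndependent F ![a, b] := LinearIndependent.pair_iff.2 fun s t e => by
    by_cases ht : t = 0
    · rw [ht, zero_smul, add_zero, smul_eq_zero] at e
      exact ⟨e.resolve_right ha0, ht⟩
    · exfalso
      by_cases hs : s = 0
      · rw [hs, zero_smul, zero_add, smul_eq_zero] at e
        exact e.elim ht hb0
      · refine hne ?_
        have eb : b = (-(t⁻¹ * s)) • a := by
          have := congrArg (fun w => t⁻¹ • w) e
          simp only [smul_add, smul_smul, inv_mul_cancel₀ ht, one_smul, smul_zero] at this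
          rw [neg_smul]; exact eq_neg_of_add_eq_zero_right this
        rw [eb, Submodule.span_singleton_smul_eq
          (Ne.isUnit (neg_ne_zero.2 (mul_ne_zero (inv_ne_zero ht) hs)))]
  have hab : h a b ≠ 0 := fun e => SLThree.not_li_iso hf ha hb e hli
  set S := LinearMap.ker (LinearMap.pi fun i => Herm.lin hf (![a, b] i)) with hS
  have hmem : ∀ v : V, v ∈ S ↔ h v a = 0 ∧ h v b = 0 := fun v => by
    constructor
    · intro e; exact ⟨congrFun e 0, congrFun e 1⟩
    · rintro ⟨e0, e1⟩; ext i; fin_cases i <;> assumption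
  have hS1 : finrank F S = 1 := by
    have := Herm.finrank_ker_values hf hli
    change 2 + finrank F S = 3 at this
    omega
  obtain ⟨c, hc, hc0⟩ := Submodule.exists_mem_ne_zero_of_ne_bot (p := S) (fun e => by
    rw [e, finrank_bot] at hS1; omega)
  obtain ⟨hca, hcb⟩ := (hmem c).1 hc
  have hgc : UnitarySimple.mat g *ᵥ c ∈ S := (hmem _).2
    ⟨by conv_lhs => rw [← hga, UnitarySimple.su_h, hca],
     by conv_lhs => rw [← hgb, UnitarySimple.su_h, hcb]⟩
  obtain ⟨κ, hκ⟩ := (finrank_eq_one_iff_of_nonzero' (⟨c, hc⟩ : S)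
    (fun e => hc0 (congrArg Subtype.val e))).1 hS1 ⟨_, hgc⟩
  have hκ' : UnitarySimple.mat g *ᵥ c = κ • c := (congrArg Subtype.val hκ).symm
  rw [hpow c κ hκ' hc0, one_smul] at hκ'
  have hli3 : LinearIndependent F ![a, b, c] := by
    rw [Fintype.linearIndependent_iff]
    intro s hs
    simp only [Fin.sum_univ_three, Matrix.cons_val_zero, Matrix.cons_val_one,
      Matrix.cons_val_two, Matrix.head_cons, Matrix.tail_cons] at hs
    have hba : h b a ≠ 0 := h_ne_zero_swap hF hab
    have e1 := congrArg (fun z => h z b) hs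
    have e2 := congrArg (fun z => h z a) hs
    simp only [h_add_left, h_smul_left, hb, ha, hca, hcb, mul_zero, add_zero, zero_add,
      h_zero_left hF] at e1 e2
    have s0 := (mul_eq_zero.1 e1).resolve_right hab
    have s1 := (mul_eq_zero.1 e2).resolve_right hba
    rw [s0, s1, zero_smul, zero_smul, zero_add, zero_add, smul_eq_zero] at hs
    intro i; fin_cases i
    · exact s0
    · exact s1
    · exact hs.resolve_right hc0
  refine UnitarySimple.su_ext fun v => ?_
  have hv : v ∈ Submodule.span F (Set.range ![a, b, c]) := by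
    rw [hli3.span_eq_top_of_card_eq_finrank (by simp)]; exact Submodule.mem_top
  obtain ⟨s, hs⟩ := Submodule.mem_span_range_iff_exists_fun F |>.1 hv
  rw [UnitarySimple.mat_one, Matrix.one_mulVec, ← hs]
  simp only [Matrix.mulVec_sum, Matrix.mulVec_smul, Matrix.mulVec_add, Fin.sum_univ_three, Matrix.cons_val_zero,
    Matrix.cons_val_one, Matrix.cons_val_two, Matrix.head_cons, Matrix.tail_cons, hga, hgb, hκ']

/-- The index ninety-six does not occur. -/
theorem false_of_eight (hF : Fintype.card F = q ^ 2) (hq8 : q = 8) (hK : IsFieldSubalgebra 3 K)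
    (hKa : IsAdjointClosedFor h K) {M : Subgroup SL} (hM : NSU q K ≤ M) (hMU : M ≤ Cfsg.SU 3 F q)
    (hcard : Nat.card M = 16416) (hN : Nat.card (NSU q K) = 171) : False := by
  classical
  have h2F : (2 : F) = 0 := by
    have := FiniteField.cast_card_eq_zero F
    rw [hF, hq8, show (8 : ℕ) ^ 2 = 2 ^ 6 by norm_num, Nat.cast_pow] at this
    exact pow_eq_zero_iff (by norm_num : 6 ≠ 0) |>.1 (by exact_mod_cast this)
  haveI : CharP F 2 := CharTwo.of_one_ne_zero_of_two_eq_zero one_ne_zero h2F
  haveI : Fact (Nat.Prime 2) := ⟨Nat.prime_two⟩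
  haveI : Fact (Nat.Prime 19) := ⟨by norm_num⟩
  set S := ↥(Cfsg.SU 3 F q)
  set M' : Subgroup S := M.subgroupOf (Cfsg.SU 3 F q) with hM'
  have hcard' : Nat.card M' = 16416 := by
    rw [hM', Nat.card_congr (Subgroup.subgroupOfEquivOfLe hMU).toEquiv, hcard]
  -- an element of order nineteen
  obtain ⟨⟨t, htT⟩, hto⟩ := exists_prime_orderOf_dvd_card' (G := TU q K) 19
    (by rw [card_TU hF hK hKa, hq8]; norm_num)
  rw [Subgroup.orderOf_mk] at hto
  set t' : M' := ⟨⟨t, htT.2⟩, hM (TU_le_NSU hK htT)⟩ with ht'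
  have hto' : orderOf t' = 19 := by
    rw [← hto, ← Subgroup.orderOf_coe, ← Subgroup.orderOf_coe]
  have hnofix : ∀ v : V, v ≠ 0 → ∀ c : F, t.1 *ᵥ v ≠ c • v := by
    intro v hv c hc
    have hit : ∀ m : ℕ, (t ^ m).1 *ᵥ v = c ^ m • v := fun m => by
      induction m with
      | zero =>
        rw [pow_zero, pow_zero, one_smul]
        show (1 : Mn) *ᵥ v = v
        rw [Matrix.one_mulVec]
      | succ m ih =>
        rw [pow_succ, pow_succ']
        show ((t ^ m).1 * t.1) *ᵥ v = _
        rw [← Matrix.mulVec_mulVec, hc, Matrix.mulVec_smul, ih, smul_smul]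
    have h1 := hit 19
    rw [← hto, pow_orderOf_eq_one] at h1
    change (1 : Mn) *ᵥ v = _ at h1
    rw [Matrix.one_mulVec] at h1
    have h2 : c ^ 19 = 1 := smul_left_injective F hv (by
      show c ^ 19 • v = (1 : F) • v
      rw [one_smul, ← hto]; exact h1.symm)
    have h63 : c ^ 63 = 1 := by
      have := FiniteField.pow_card_sub_one_eq_one c (fun e => by rw [e, zero_pow (by norm_num)] at h2; exact zero_ne_one h2)
      rwa [hF, hq8] at this
    have hc1 : c = 1 := by
      have := pow_gcd_eq_one.mpr ⟨h2, h63⟩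
      simpa using this
    rw [hc1, one_smul] at hc
    have h0 : t.1 - 1 ≠ 0 := fun e => by
      have : t = 1 := Subtype.ext (sub_eq_zero.1 e)
      rw [this, orderOf_one] at hto
      norm_num at hto
    exact hv (Elusive.nonzero_mem_injective hK (K.sub_mem htT.1 K.one_mem) h0 (by
      rw [Matrix.sub_mulVec, Matrix.one_mulVec, hc, sub_self]))
  -- a fixed point of a Sylow subgroup
  obtain ⟨R⟩ : Nonempty (Sylow 2 M') := inferInstance
  have hR : Nat.card (R : Subgroup M') = 32 := by
    rw [R.card_eq_multiplicity, hcard', show (16416 : ℕ) = 2 ^ 5 * 513 by norm_num,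
      Nat.factorization_mul (by norm_num) (by norm_num), Finsupp.add_apply, Nat.Prime.factorization_pow
      Nat.prime_two, Finsupp.single_eq_same, Nat.factorization_eq_zero_of_not_dvd (by norm_num)]
    norm_num
  set I := {v : V // v ≠ 0 ∧ h v v = 0}
  letI : MulAction (R : Subgroup M') I :=
    { smul := fun r v => ⟨UnitarySimple.mat (r.1.1 : S) *ᵥ v.1, UnitarySimple.mat_ne_zero _ v.2.1,
        by rw [UnitarySimple.su_h]; exact v.2.2⟩
      one_smul := fun v => Subtype.ext (by
        show (1 : Mn) *ᵥ v.1 = v.1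
        rw [Matrix.one_mulVec])
      mul_smul := fun r s v => Subtype.ext (by
        show (UnitarySimple.mat (r.1.1 : S) * UnitarySimple.mat (s.1.1 : S)) *ᵥ v.1 = _
        rw [← Matrix.mulVec_mulVec]; rfl) }
  have hI : ¬ 2 ∣ Nat.card I := by
    have h0 := CfsgLib.HermCount.q_mul_A0 hF 3
    have hA : CfsgLib.HermCount.A0 F q 3 = Nat.card I + 1 := by
      have h1 := Nat.card_congr (Equiv.sumCompl fun v : {v : V // h v v = 0} => v.1 = 0)
      rw [Nat.card_sum, add_comm] at h1
      rw [show CfsgLib.HermCount.A0 F q 3 = Nat.card {v : V // h v v = 0} from rfl, ← h1]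
      congr 1
      · refine Nat.card_congr
          { toFun := fun v => ⟨v.1.1, v.2, v.1.2⟩
            invFun := fun v => ⟨⟨v.1, v.2.2⟩, v.2.1⟩
            left_inv := fun _ => rfl
            right_inv := fun _ => rfl }
      · haveI : Unique {v : {v : V // h v v = 0} // v.1 = 0} :=
          { default := ⟨⟨0, h_zero_left hF 0⟩, rfl⟩
            uniq := fun v => Subtype.ext (Subtype.ext v.2) }
        exact Nat.card_unique
    rw [hA, hq8] at h0
    push_cast at h0
    intro hd
    obtain ⟨k, hk⟩ := hd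
    omega
  obtain ⟨⟨v, hv0, hvv⟩, hvfix⟩ := R.2.nonempty_fixed_point_of_prime_not_dvd_card I hI
  set x0 : UnitarySimple.IPt 3 F q := UnitarySimple.pt hv0 hvv
  set O := MulAction.orbit M' x0
  set o0 : O := ⟨x0, MulAction.mem_orbit_self _⟩
  set H := MulAction.stabilizer M' o0 with hH
  have hsmul : ∀ (g : M') (w : V) (hw0 : w ≠ 0) (hw : h w w = 0), g • UnitarySimple.pt hw0 hw =
      UnitarySimple.pt hw0 hw ↔ ∃ c : F, UnitarySimple.mat (g : S) *ᵥ w = c • w := by
    intro g w hw0 hw
    constructor
    · intro e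
      have e' : Submodule.span F {UnitarySimple.mat (g : S) *ᵥ w} = Submodule.span F ({w} : Set V) :=
        congrArg Subtype.val ((UnitarySimple.smul_pt (g : S) hw0 hw).symm.trans e)
      have := Submodule.mem_span_singleton_self (R := F) (UnitarySimple.mat (g : S) *ᵥ w)
      rw [e'] at this
      obtain ⟨c, hc⟩ := Submodule.mem_span_singleton.1 this
      exact ⟨c, hc.symm⟩
    · rintro ⟨c, hc⟩
      exact UnitarySimple.smul_pt_eq (g : S) hw0 hw hw0 hw c hc
  have hRH : (R : Subgroup M') ≤ H := fun r hr => MulAction.mem_stabilizer_iff.2 (Subtype.ext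
    ((hsmul r v hv0 hvv).2 ⟨1, by rw [one_smul]; exact congrArg Subtype.val (hvfix ⟨r, hr⟩)⟩))
  have horb : Nat.card O * Nat.card H = 16416 := by
    rw [← hcard', ← Subgroup.card_mul_index H, mul_comm, Nat.card_coe_set_eq,
      ← MulAction.index_stabilizer]
    congr 2
    ext g
    rw [hH, MulAction.mem_stabilizer_iff, MulAction.mem_stabilizer_iff]
    exact ⟨fun e => Subtype.ext e, fun e => congrArg Subtype.val e⟩
  haveI : Finite O := Finite.of_surjective (fun g : M' => (⟨g • x0, MulAction.mem_orbit x0 g⟩ : O))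
    fun ⟨w, g, hgw⟩ => ⟨g, Subtype.ext hgw⟩
  haveI : Nonempty O := ⟨o0⟩
  have h19 : 19 ∣ Nat.card O := by
    have hP : IsPGroup 19 (Subgroup.zpowers t') := IsPGroup.of_card (n := 1) (by
      rw [Nat.card_zpowers, hto', pow_one])
    have hfix : Nat.card (MulAction.fixedPoints (Subgroup.zpowers t') O) = 0 := by
      rw [Nat.card_eq_zero]
      left
      refine ⟨fun ⟨w, hw⟩ => ?_⟩
      obtain ⟨e, he0, he, hwe⟩ := UnitarySimple.pt_surj (w.1)
      have h1 : t' • w.1 = w.1 := congrArg Subtype.val (hw ⟨t', Subgroup.mem_zpowers t'⟩)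
      rw [hwe, hsmul] at h1
      obtain ⟨c, hc⟩ := h1
      exact hnofix e he0 c hc
    have := hP.card_modEq_card_fixedPoints O
    rw [hfix] at this
    exact Nat.modEq_zero_iff_dvd.1 this
  have h32 : Nat.card O ≡ 1 [MOD 2] := by
    have := R.2.card_modEq_card_fixedPoints O
    refine this.trans ?_
    have : Nat.card (MulAction.fixedPoints (R : Subgroup M') O) = 1 := by
      refine Nat.card_eq_one_iff_unique.2 ⟨⟨?_⟩, ⟨⟨o0, fun r => hRH r.2⟩⟩⟩
      suffices ∀ w : MulAction.fixedPoints (R : Subgroup M') O, w.1 = o0 from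
        fun a b => Subtype.ext ((this a).trans (this b).symm)
      rintro ⟨w, hw⟩
      obtain ⟨e, he0, he, hwe⟩ := UnitarySimple.pt_surj (w.1)
      refine Subtype.ext ?_
      by_contra hne
      rw [hwe] at hne
      obtain ⟨r, hr⟩ := exists_prime_orderOf_dvd_card' (G := (R : Subgroup M')) 2 (by rw [hR]; norm_num)
      have h1 : (r : M') • w.1 = w.1 := congrArg Subtype.val (hw r)
      rw [hwe, hsmul] at h1
      obtain ⟨c, hc⟩ := h1
      have hgp : ((r : M') : S) ^ 2 ^ 1 = 1 := by
        have hh := pow_orderOf_eq_one r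
        rw [hr] at hh
        rw [pow_one]
        exact congrArg (fun z : (R : Subgroup M') => ((z : M') : S)) hh
      have h2 := eq_one_of_two_points hF (p := 2) ((r : M') : S) hgp he0 hv0 he hvv
        (fun e' => hne (Subtype.ext e')) hc (y := 1) (by rw [one_smul]; exact congrArg Subtype.val (hvfix r))
      rw [← Subgroup.orderOf_coe, ← Subgroup.orderOf_coe, h2, orderOf_one] at hr
      norm_num at hr
    rw [this]
  have hH32 : Nat.card H = 32 := by
    have h1 : 32 ∣ Nat.card H := hR ▸ Subgroup.card_dvd_of_le hRH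
    obtain ⟨k, hk⟩ := h1
    obtain ⟨j, hj⟩ := h19
    rw [hk, hj] at horb
    have hjk : j * k = 27 := by nlinarith
    have hk27 : k ∣ 27 := ⟨j, by rw [← hjk, mul_comm]⟩
    have hm : 32 ∣ Nat.card O - 1 ∧ 1 ≤ Nat.card O := by
      refine ⟨?_, Nat.card_pos⟩
      let A := {w : O // w ≠ o0}
      letI : MulAction (R : Subgroup M') A :=
        { smul := fun r w => ⟨r • w.1, fun e => w.2 (by
            have := congrArg (fun z => r⁻¹ • z) e
            rwa [inv_smul_smul, show r⁻¹ • o0 = o0 from hRH (r⁻¹).2] at this)⟩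
          one_smul := fun w => Subtype.ext (one_smul _ w.1)
          mul_smul := fun r s w => Subtype.ext (mul_smul r s w.1) }
      have hA : Nat.card A = Nat.card O - 1 := by
        haveI : Fintype O := Fintype.ofFinite _
        rw [Nat.card_eq_fintype_card, Fintype.card_subtype_compl, Fintype.card_subtype_eq,
          Nat.card_eq_fintype_card]
      rw [← hA]
      suffices hfree : ∀ (r : (R : Subgroup M')) (w : A), r • w = w → r = 1 by
        haveI : Finite A := Subtype.finite
        haveI : Fintype (MulAction.orbitRel.Quotient (R : Subgroup M') A) := Fintype.ofFinite _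
        rw [Nat.card_congr (MulAction.selfEquivSigmaOrbitsQuotientStabilizer (R : Subgroup M') A),
          Nat.card_sigma]
        refine Finset.dvd_sum fun ω _ => ?_
        rw [← Subgroup.index, (eq_bot_iff.2 fun r hr => Subgroup.mem_bot.2 (hfree r ω.out hr) :
          MulAction.stabilizer (R : Subgroup M') ω.out = ⊥), Subgroup.index_bot, hR]
      intro r w hrw
      obtain ⟨e, he0, he, hwe⟩ := UnitarySimple.pt_surj (w.1.1)
      have h1 : (r : M') • w.1.1 = w.1.1 := congrArg (fun z : A => z.1.1) hrw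
      rw [hwe, hsmul] at h1
      obtain ⟨c, hc⟩ := h1
      have hgp : ((r : M') : S) ^ 2 ^ 5 = 1 := by
        have hh := pow_card_eq_one' (x := r)
        rw [hR] at hh
        exact congrArg (fun z : (R : Subgroup M') => ((z : M') : S)) (show r ^ 2 ^ 5 = 1 from hh)
      exact Subtype.ext (Subtype.ext (eq_one_of_two_points hF (p := 2) ((r : M') : S) hgp he0 hv0 he hvv
        (fun e' => w.2 (Subtype.ext (hwe.trans (Subtype.ext e')))) hc (y := 1)
        (by rw [one_smul]; exact congrArg Subtype.val (hvfix r))))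
    have hkle : k ≤ 27 := Nat.le_of_dvd (by norm_num) hk27
    have hjv : j = 27 / k := by rw [← hjk]; exact (Nat.mul_div_cancel _ (Nat.pos_of_ne_zero fun e => by simp [e] at hjk)).symm
    rw [hj, hjv] at hm
    interval_cases k <;> first | omega | simp_all
  have hFrob : IsFrobeniusComplement H := by
    refine ⟨fun e => ?_, fun e => ?_, fun g hg => ?_⟩
    · rw [e, Subgroup.card_bot] at hH32; norm_num at hH32
    · rw [e, Subgroup.card_top, hcard'] at hH32; norm_num at hH32
    · rw [eq_bot_iff]
      rintro s ⟨hs, hs'⟩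
      rw [Subgroup.mem_bot]
      obtain ⟨e, he0, he, hge⟩ := UnitarySimple.pt_surj ((g • o0 : O).1)
      have h1 : s • (g • o0 : O).1 = (g • o0 : O).1 := by
        have hgg := mem_conj_smul_iff.1 hs'
        have := congrArg (fun z : O => (g • z).1) (MulAction.mem_stabilizer_iff.1 hgg)
        rw [← mul_smul, show g * (g⁻¹ * s * g) = s * g by group, mul_smul] at this
        exact this
      rw [hge, hsmul] at h1
      obtain ⟨c, hc⟩ := h1
      obtain ⟨d, hd⟩ := (hsmul s v hv0 hvv).1 (congrArg Subtype.val (MulAction.mem_stabilizer_iff.1 hs))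
      have hgp : (s : S) ^ 2 ^ 5 = 1 := by
        have hh := pow_card_eq_one' (x := (⟨s, hs⟩ : H))
        rw [hH32] at hh
        exact congrArg (fun z : H => ((z : M') : S)) (show (⟨s, hs⟩ : H) ^ 2 ^ 5 = 1 from hh)
      refine Subtype.ext (eq_one_of_two_points hF (p := 2) (s : S) hgp he0 hv0 he hvv (fun e' => hg ?_) hc hd)
      exact MulAction.mem_stabilizer_iff.2 (Subtype.ext (hge.trans (Subtype.ext e')))
  obtain ⟨N, hNk, hNn, hNc, hNil⟩ := CfsgLib.Frob.exists_nilpotent_kernel hFrob
  haveI := hNil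
  have htN : t' ∈ N := by
    rw [← SetLike.mem_coe, hNk]
    refine Or.inr fun g hg => ?_
    obtain ⟨e, he0, he, hge⟩ := UnitarySimple.pt_surj ((g • o0 : O).1)
    have h1 : t' • (g • o0 : O).1 = (g • o0 : O).1 := by
      have hgg := mem_conj_smul_iff.1 hg
      have := congrArg (fun z : O => (g • z).1) (MulAction.mem_stabilizer_iff.1 hgg)
      rw [← mul_smul, show g * (g⁻¹ * t' * g) = t' * g by group, mul_smul] at this
      exact this
    rw [hge, hsmul] at h1
    obtain ⟨c, hc⟩ := h1
    exact hnofix e he0 c hc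
  -- the torus is normal
  have hNcard : Nat.card N = 513 := by
    have := hNc.card_mul
    rw [hH32, hcard'] at this
    omega
  have hall : ∀ g : M', g * t' * g⁻¹ ∈ Subgroup.zpowers t' := by
    intro g
    obtain ⟨P⟩ : Nonempty (Sylow 19 N) := inferInstance
    haveI : Subsingleton (Sylow 19 N) := by
      have h4 : ∀ (p : ℕ) (_ : Fact p.Prime) (P : Sylow p N), P.Normal :=
        ((Group.isNilpotent_of_finite_tfae (G := N)).out 0 3).mp hNil
      haveI := Sylow.unique_of_normal P (h4 19 inferInstance P)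
      infer_instance
    have hP : Nat.card (P : Subgroup N) = 19 := by
      rw [P.card_eq_multiplicity, hNcard, show (513 : ℕ) = 19 ^ 1 * 27 by norm_num,
        Nat.factorization_mul (by norm_num) (by norm_num), Finsupp.add_apply, Nat.Prime.factorization_pow
        (by norm_num), Finsupp.single_eq_same, Nat.factorization_eq_zero_of_not_dvd (by norm_num)]
      rfl
    have hin : ∀ (x : M') (hx : x ∈ N), orderOf x = 19 → (⟨x, hx⟩ : N) ∈ (P : Subgroup N) := by
      intro x hx ho
      obtain ⟨Q, hQ⟩ := (IsPGroup.of_card (n := 1) (by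
        rw [Nat.card_zpowers, Subgroup.orderOf_mk, ho, pow_one]) : IsPGroup 19 (Subgroup.zpowers (⟨x, hx⟩ : N))).exists_le_sylow
      rw [Subsingleton.elim Q P] at hQ
      exact hQ (Subgroup.mem_zpowers _)
    have e : Subgroup.zpowers (⟨t', htN⟩ : N) = (P : Subgroup N) :=
      Subgroup.eq_of_le_of_card_ge (Subgroup.zpowers_le.2 (hin t' htN hto'))
        (by rw [Nat.card_zpowers, Subgroup.orderOf_mk, hto', hP])
    have hg := hin _ (hNn.conj_mem t' htN g) (by rw [← MulAut.conj_apply, MulEquiv.orderOf_eq, hto'])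
    rw [← e] at hg
    obtain ⟨k, hk⟩ := hg
    exact ⟨k, congrArg Subtype.val hk⟩
  have hsub : M ≤ NSU q K := fun x hx => by
    refine ⟨?_, hMU hx⟩
    obtain ⟨k, hk⟩ := hall (⟨⟨x, hMU hx⟩, hx⟩⁻¹)
    have htz : t ∉ Subgroup.center SL := fun hz => by
      obtain ⟨c, hc⟩ := scalar_of_mem_center hz
      exact hnofix (Pi.single 0 1) (by simp) c (by rw [hc, Matrix.smul_mulVec, Matrix.one_mulVec])
    refine mem_NS_of_conj hK htT.1 htz ?_
    let φ : M' →* SL := (Cfsg.SU 3 F q).subtype.comp M'.subtype
    have hk' := congrArg φ hk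
    simp only [map_mul, map_inv, map_zpow, inv_inv] at hk'
    change t ^ k = x⁻¹ * t * x at hk'
    rw [← hk']
    exact Subgroup.zpow_mem (T K) htT.1 k
  have := Subgroup.card_le_of_le hsub
  omega

end CfsgLib.MaxSub.SU3Max.Cubic
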