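/-
Normalisers of cubic field subalgebras are maximal in `SU_3(q)` for `q ≠ 3, 5`.
-/
import Cfsg.Agent.Lib.MaxSub.SU3Max.Cubic.Arith
import Cfsg.Agent.Lib.MaxSub.SU3Max.Cubic.Eight
import Cfsg.Agent.Lib.MaxSub.FormMaximalSL
import Cfsg.Agent.Lib.PSU3Min.Main
import Cfsg.Agent.Lib.SUShort.Model
import Cfsg.Agent.Lib.Aschbacher.UnitaryProper

set_option autoImplicit false
set_option maxHeartbeats 800000
set_option linter.unusedSectionVars false

namespace CfsgLib.MaxSub.SU3Max.Cubic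

open Matrix Module Cfsg Cfsg.Geo CfsgLib.MaxSub.SLThree.Cubic

variable {F : Type*} [Field F] [Fintype F] {q : ℕ} {K : Subalgebra F (Matrix (Fin 3) (Fin 3) F)}

local notation "SL" => Matrix.SpecialLinearGroup (Fin 3) F
local notation "Mn" => Matrix (Fin 3) (Fin 3) F
local notation "h" => Cfsg.hermForm 3 F q

theorem card_SU3 (hF : Fintype.card F = q ^ 2) (hq : 3 ≤ q) :
    Nat.card (Cfsg.SU 3 F q) = q ^ 3 * (q ^ 2 - 1) * (q ^ 3 + 1) := by
  obtain ⟨M⟩ := CfsgLib.SUShort.exists_three q hF hq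
  exact M.card_SU3

/-- A size of a field is a prime power. -/
theorem not_two_primes (hF : Fintype.card F = q ^ 2) {a b : ℕ} (ha : a.Prime) (hb : b.Prime)
    (hab : a ≠ b) (hda : a ∣ q) (hdb : b ∣ q) : False := by
  obtain ⟨p, hp⟩ := CharP.exists F
  obtain ⟨n, hpr, hn⟩ := FiniteField.card F p
  rw [hF] at hn
  have h1 : a ∣ p ^ (n : ℕ) := hn ▸ dvd_pow hda two_ne_zero
  have h2 : b ∣ p ^ (n : ℕ) := hn ▸ dvd_pow hdb two_ne_zero
  exact hab (((Nat.prime_dvd_prime_iff_eq ha hpr).1 (ha.dvd_of_dvd_pow h1)).trans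
    ((Nat.prime_dvd_prime_iff_eq hb hpr).1 (hb.dvd_of_dvd_pow h2)).symm)

/-- A proper overgroup of the normaliser has a large index. -/
theorem index_bound (hF : Fintype.card F = q ^ 2) (hq : 3 ≤ q) (hq5 : q ≠ 5)
    (hK : IsFieldSubalgebra 3 K) (hKa : IsAdjointClosedFor h K) {M : Subgroup SL} (hM : NSU q K ≤ M)
    (hne : (M.subgroupOf (Cfsg.SU 3 F q)).index ≠ 1) :
    q ^ 3 + 1 ≤ (M.subgroupOf (Cfsg.SU 3 F q)).index := by
  set M' := M.subgroupOf (Cfsg.SU 3 F q) with hM'
  obtain ⟨t, ht, htz⟩ : ∃ t ∈ TU q K, t ∉ Subgroup.center SL := by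
    by_contra hn
    push Not at hn
    have hle : TU q K ≤ Subgroup.center SL ⊓ Cfsg.SU 3 F q := fun t ht => ⟨hn t ht, ht.2⟩
    have := Subgroup.card_le_of_le hle
    rw [card_TU hF hK hKa, card_center_inf hF] at this
    have : 4 + q ≤ q ^ 2 + 1 := by nlinarith
    split_ifs at * <;> omega
  have hker : (QuotientGroup.mk' (Subgroup.center (Cfsg.SU 3 F q))).ker ≤ M' := by
    rw [QuotientGroup.ker_mk']
    intro z hz
    refine Subgroup.mem_subgroupOf.2 (hM ⟨?_, z.2⟩)
    refine mem_NS_of_conj hK ht.1 htz ?_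
    have e : (z : SL)⁻¹ * t * z = t := by
      have hh : t * (z : SL) = z * t := congrArg Subtype.val (Subgroup.mem_center_iff.1 hz ⟨t, ht.2⟩)
      rw [mul_assoc, hh, inv_mul_cancel_left]
    rw [e]
    exact ht.1
  have hidx : (M'.map (QuotientGroup.mk' _)).index = M'.index :=
    Subgroup.index_map_eq M' (QuotientGroup.mk'_surjective _) hker
  have := (CfsgLib.PSU3Min.main q hF hq hq5).1 (M'.map (QuotientGroup.mk' (Subgroup.center (Cfsg.SU 3 F q))))
    (fun e => hne (by rw [← hidx, e, Subgroup.index_top]))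
  rwa [hidx] at this

/-- The overgroups of the normaliser. -/
theorem eq_or_eq_SU (hF : Fintype.card F = q ^ 2) (hq : 3 ≤ q) (hq3 : q ≠ 3) (hq5 : q ≠ 5)
    (hK : IsFieldSubalgebra 3 K) (hKa : IsAdjointClosedFor h K) {M : Subgroup SL} (hM : NSU q K ≤ M)
    (hMU : M ≤ Cfsg.SU 3 F q) : M = NSU q K ∨ M = Cfsg.SU 3 F q := by
  set a := ((NSU q K).subgroupOf M).index with ha'
  set b := (M.subgroupOf (Cfsg.SU 3 F q)).index with hb'
  have hNU : NSU q K ≤ Cfsg.SU 3 F q := inf_le_right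
  have hMa : Nat.card M = Nat.card (NSU q K) * a := by
    rw [← ((NSU q K).subgroupOf M).card_mul_index, Nat.card_congr (Subgroup.subgroupOfEquivOfLe hM).toEquiv]
  have hSb : Nat.card (Cfsg.SU 3 F q) = Nat.card M * b := by
    rw [← (M.subgroupOf (Cfsg.SU 3 F q)).card_mul_index, Nat.card_congr (Subgroup.subgroupOfEquivOfLe hMU).toEquiv]
  have hab : ((NSU q K).subgroupOf (Cfsg.SU 3 F q)).index = a * b := by
    refine Nat.eq_of_mul_eq_mul_left (Nat.card_pos : 0 < Nat.card (NSU q K)) ?_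
    rw [← mul_assoc, ← hMa, ← hSb, ← ((NSU q K).subgroupOf (Cfsg.SU 3 F q)).card_mul_index,
      Nat.card_congr (Subgroup.subgroupOfEquivOfLe hNU).toEquiv]
  set m := ((Subgroup.center SL).subgroupOf (TU q K)).index
  set d := (if q % 3 = 2 then 3 else 1) with hd
  have hqle : q ≤ q ^ 2 + 1 := (Nat.le_self_pow two_ne_zero q).trans (by omega)
  have hdm : d * m + q = q ^ 2 + 1 := by
    have := index_center hF hK hKa
    rw [this, Nat.sub_add_cancel hqle]
  have hm3 : 3 ≤ m := by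
    rw [hd] at hdm
    split_ifs at hdm
    · nlinarith [Nat.mul_le_mul (show 4 ≤ q by omega) (le_refl q)]
    · nlinarith [Nat.mul_le_mul hq (le_refl q)]
  have ha : a ≡ 1 [MOD m] := index_modEq hK hM hMU
  have hab1 : a * b ≡ 1 [MOD m] := hab ▸ index_modEq hK hNU le_rfl
  have hb : b ≡ 1 [MOD m] := by
    have := ha.mul_right b
    rw [one_mul] at this
    exact this.symm.trans hab1
  have hcard := card_SU3 hF hq
  have hsq : q ^ 2 - 1 = (q + 1) * (q - 1) := by simpa using Nat.sq_sub_sq q 1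
  have h31 : q ^ 3 + 1 = (q + 1) * (q ^ 2 + 1 - q) := by zify [hqle]; ring
  have hT := card_TU hF hK hKa
  have hT0 : 0 < q ^ 2 + 1 - q := by have := Nat.mul_le_mul hq (le_refl q); rw [← sq] at this; omega
  have hN : Nat.card (NSU q K) = 3 * (q ^ 2 + 1 - q) := by
    rcases card_NSU_cases (q := q) hK with e | e
    · exfalso
      have hprod : a * b = q ^ 3 * (q + 1) ^ 2 * (q - 1) := by
        refine Nat.eq_of_mul_eq_mul_left hT0 ?_
        rw [← mul_assoc, ← hT, ← e, ← hMa, ← hSb, hcard, hsq, h31, e, hT]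
        ring
      have h1 : (m : ℤ) ∣ (q : ℤ) ^ 3 * ((q : ℤ) + 1) ^ 2 * ((q : ℤ) - 1) - 1 := by
        have hh := (Nat.modEq_iff_dvd).1 hab1.symm
        rw [hprod] at hh
        push_cast [Nat.cast_sub (show 1 ≤ q by omega)] at hh
        exact hh
      have h2 : (m : ℤ) ∣ (q : ℤ) ^ 3 * ((q : ℤ) + 1) ^ 2 * ((q : ℤ) - 1) - 3 := by
        refine dvd_trans ⟨(d : ℤ), ?_⟩ (⟨(q : ℤ) ^ 4 + 2 * q ^ 3 - 3 * q - 3, by ring⟩ :
          (q : ℤ) ^ 2 - q + 1 ∣ _)
        have hh := congrArg (fun n : ℕ => (n : ℤ)) hdm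
        push_cast at hh
        linear_combination -hh
      have h3 := dvd_sub h1 h2
      rw [show ∀ x : ℤ, x - 1 - (x - 3) = 2 from fun x => by ring] at h3
      have := Int.le_of_dvd (by norm_num) h3
      omega
    · rw [e, hT]
  have hprod : 3 * (a * b) = q ^ 3 * (q + 1) ^ 2 * (q - 1) := by
    refine Nat.eq_of_mul_eq_mul_left hT0 ?_
    have e : Nat.card (NSU q K) * (a * b) = Nat.card (Cfsg.SU 3 F q) := by rw [← mul_assoc, ← hMa, ← hSb]
    rw [hN, hcard, hsq, h31] at e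
    rw [show (q ^ 2 + 1 - q) * (3 * (a * b)) = 3 * (q ^ 2 + 1 - q) * (a * b) by ring, e]
    ring
  have hA : a = 1 → M = NSU q K := fun e =>
    le_antisymm (Subgroup.subgroupOf_eq_top.1 (Subgroup.index_eq_one.1 e)) hM
  have hB : b = 1 → M = Cfsg.SU 3 F q := fun e =>
    le_antisymm hMU (Subgroup.subgroupOf_eq_top.1 (Subgroup.index_eq_one.1 e))
  have hbig : b ≤ q ^ 3 → M = Cfsg.SU 3 F q := fun hle => hB (by
    by_contra hne
    have := index_bound hF hq hq5 hK hKa hM hne
    omega)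
  by_cases hex : q ∈ [2, 3, 4, 5, 6, 8, 14, 35]
  · simp only [List.mem_cons, List.not_mem_nil, or_false] at hex
    rcases hex with rfl | rfl | rfl | rfl | rfl | rfl | rfl | rfl
    · omega
    · omega
    · have hm : m = 13 := by norm_num [hd] at hdm; omega
      rw [hm] at ha hb
      rcases solve_four (by norm_num at hprod; omega) ha hb with e | e
      exacts [Or.inl (hA e), Or.inr (hbig e)]
    · omega
    · exact (not_two_primes hF Nat.prime_two Nat.prime_three (by omega) (by norm_num) (by norm_num)).elim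
    · have hm : m = 19 := by norm_num [hd] at hdm; omega
      rw [hm] at ha hb
      rcases solve_eight (by norm_num at hprod; omega) ha hb with e | e | e
      · exact Or.inl (hA e)
      · exact Or.inr (hbig e)
      · norm_num at hN
        exact (false_of_eight hF rfl hK hKa hM hMU (by rw [hMa, hN, e]) hN).elim
    · exact (not_two_primes hF Nat.prime_two (by norm_num : Nat.Prime 7) (by omega) (by norm_num) (by norm_num)).elim
    · exact (not_two_primes hF (by norm_num : Nat.Prime 5) (by norm_num : Nat.Prime 7) (by omega) (by norm_num) (by norm_num)).elim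
  · rcases solve (by omega) hex hd hdm hprod ha hb with e | e
    exacts [Or.inl (hA e), Or.inr (hB e)]

/-- Cubic-field normalisers are maximal in `SU_3(q)`. -/
theorem su3_cubic_maximal (hq : 3 ≤ q) (hF : Fintype.card F = q ^ 2) (hq3 : q ≠ 3) (hq5 : q ≠ 5)
    (hK : IsFieldSubalgebra 3 K) (hKa : IsAdjointClosedFor h K) :
    IsMaximalIn (Cfsg.GU 3 F q ⊓ specialLinear (Fin 3) F)
      (subalgebraNormalizer K ⊓ (Cfsg.GU 3 F q ⊓ specialLinear (Fin 3) F)) := by
  refine ⟨lt_of_le_of_ne inf_le_right fun e =>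
    CfsgLib.Aschbacher.not_SU_le_subalgebraNormalizer hF le_rfl hK (by norm_num)
      ((le_of_eq e.symm).trans inf_le_left), fun M hM hMG => ?_⟩
  have hN : NSU q K ≤ M.comap Matrix.SpecialLinearGroup.toGL := fun g hg =>
    hM ⟨hg.1, fun u v => hg.2 u v, Units.ext g.2⟩
  have hU : M.comap Matrix.SpecialLinearGroup.toGL ≤ Cfsg.SU 3 F q := fun g hg u v => (hMG hg).1 u v
  rcases eq_or_eq_SU hF hq hq3 hq5 hK hKa hN hU with e | e
  · refine Or.inl (le_antisymm (le_inf (fun g hg => ?_) hMG) hM)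
    obtain ⟨gs, hgs, hgse⟩ := exists_sl_of (hMG.trans inf_le_right) hg
    rw [e] at hgs
    rw [show g = Matrix.SpecialLinearGroup.toGL gs from Units.ext hgse.symm]
    exact hgs.1
  · refine Or.inr (le_antisymm hMG fun g hg => ?_)
    obtain ⟨gs, hgs, hgse⟩ := exists_sl_of (K := Cfsg.GU 3 F q ⊓ specialLinear (Fin 3) F) inf_le_right hg
    have h1 : gs ∈ Cfsg.SU 3 F q := fun u v => hgs.1 u v
    rw [← e] at h1
    rw [show g = Matrix.SpecialLinearGroup.toGL gs from Units.ext hgse.symm]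
    exact h1

end CfsgLib.MaxSub.SU3Max.Cubic
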